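import Mathlib.GroupTheory.PGroup
import Mathlib.GroupTheory.Nilpotent
import Mathlib.GroupTheory.Index
import Mathlib.Algebra.BigOperators.Group.Finset.Basic

/-!
A `p`-group with two class sizes has central quotient of exponent `p`.
-/

set_option autoImplicit false
set_option linter.style.haveILetI false

namespace CfsgLib.TwoClassSizes

open Subgroup
open scoped IsMulCommutative

variable {G : Type*} [Group G] [Finite G]

/-- The product identity behind a rank two elementary group of operators with trivial norms. -/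
theorem pow_mem_of_norms {A : Type*} [CommGroup A] (Z : Subgroup A) {p : ℕ} (hp : p.Prime)
    (α β : MulAut A) (hαβ : Commute α β)
    (h1 : ∀ i : ℕ, ∀ a : A, ∏ j ∈ Finset.range p, ((α ^ i * β) ^ j) a ∈ Z)
    (h2 : ∀ j : ℕ, ¬ p ∣ j → ∀ a : A, ∏ i ∈ Finset.range p, ((α ^ j) ^ i) a ∈ Z) (a : A) :
    a ^ p ∈ Z := by
  have hall : ∏ j ∈ Finset.range p, ∏ i ∈ Finset.range p, ((α ^ i * β) ^ j) a ∈ Z := by
    rw [Finset.prod_comm]
    exact Z.prod_mem fun i _ => h1 i a
  have hrest : ∏ j ∈ (Finset.range p).erase 0, ∏ i ∈ Finset.range p, ((α ^ i * β) ^ j) a ∈ Z := by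
    refine Z.prod_mem fun j hj => ?_
    rw [Finset.mem_erase, Finset.mem_range] at hj
    have heq : ∀ i : ℕ, ((α ^ i * β) ^ j) a = ((α ^ j) ^ i) ((β ^ j) a) := by
      intro i
      rw [(hαβ.pow_left i).mul_pow, ← pow_mul, Nat.mul_comm i j, pow_mul, MulAut.mul_apply]
    simp only [heq]
    exact h2 j (fun hd => absurd (Nat.le_of_dvd (Nat.pos_of_ne_zero hj.1) hd) (by omega)) _
  rw [← Finset.mul_prod_erase _ _ (Finset.mem_range.2 hp.pos)] at hall
  have := (Z.mul_mem_cancel_right hrest).1 hall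
  simpa using this

/- The conjugates of `a` entering `(a g)^n`. -/
omit [Finite G] in
theorem mul_pow_eq (A : Subgroup G) [A.Normal] [IsMulCommutative A] (a : A) (g : G) (n : ℕ) :
    ((a : G) * g) ^ n =
      ((∏ i ∈ Finset.range n, (MulAut.conjNormal g ^ i) a : A) : G) * g ^ n := by
  induction n with
  | zero => simp
  | succ n ih =>
    rw [pow_succ, ih, Finset.prod_range_succ, Subgroup.coe_mul, ← map_pow,
      MulAut.conjNormal_apply, pow_succ g n]
    group

theorem pow_mem_center (p : ℕ) [hp : Fact p.Prime] (hP : IsPGroup p G) (a : ℕ)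
    (hcs : ∀ x : G, x ∉ center G → (centralizer ({x} : Set G)).index = p ^ a) (x : G) :
    x ^ p ∈ center G := by
  by_contra hx
  have hcen : ∀ u : G, ∀ v : G, v ∈ centralizer ({u} : Set G) ↔ v * u = u * v := fun u v =>
    ⟨fun h => (mem_centralizer_iff.1 h u rfl).symm, fun h => mem_centralizer_iff.2
      fun w hw => by rw [Set.mem_singleton_iff] at hw; rw [hw, h]⟩
  have hmax : ∀ u v : G, u ∉ center G → v ∉ center G →
      centralizer ({u} : Set G) ≤ centralizer ({v} : Set G) →
      centralizer ({u} : Set G) = centralizer ({v} : Set G) := by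
    intro u v hu hv hle
    refine eq_of_le_of_card_ge hle (le_of_eq ?_)
    have h1 := (centralizer ({u} : Set G)).card_mul_index
    have h2 := (centralizer ({v} : Set G)).card_mul_index
    rw [hcs u hu] at h1
    rw [hcs v hv, ← h1] at h2
    exact Nat.eq_of_mul_eq_mul_right (pow_pos hp.out.pos a) h2
  have hpw : ∀ u : G, u ^ p ∉ center G →
      centralizer ({u} : Set G) = centralizer ({u ^ p} : Set G) := by
    intro u hu
    refine hmax u _ (fun h => hu (pow_mem h p)) hu fun v hv => (hcen _ _).2 ?_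
    exact (Commute.pow_right ((hcen _ _).1 hv) p).eq
  -- an element of the second center of order p modulo the center
  haveI : Nontrivial G := ⟨⟨x ^ p, 1, fun e => hx (e ▸ one_mem _)⟩⟩
  have hne : center G ≠ ⊤ := fun h => hx (h ▸ mem_top _)
  obtain ⟨z, hzc, hzn, hz2⟩ : ∃ z : G, z ^ p ∈ center G ∧ z ∉ center G ∧
      ∀ g : G, g * z * g⁻¹ * z⁻¹ ∈ center G := by
    haveI : Nontrivial (G ⧸ center G) := (QuotientGroup.nontrivial_iff).2 hne
    haveI := (hP.to_quotient (center G)).center_nontrivial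
    obtain ⟨c, hc⟩ := exists_ne (1 : center (G ⧸ center G))
    have hcp := hP.to_quotient (center G)
    obtain ⟨c', hc'⟩ := exists_prime_orderOf_dvd_card' p (G := center (G ⧸ center G))
      (((hcp.to_subgroup _).card_eq_or_dvd).resolve_left (fun h => by
        haveI := (Nat.card_eq_one_iff_unique.1 h).1; exact hc (Subsingleton.elim _ _)))
    obtain ⟨z, hz⟩ := QuotientGroup.mk_surjective (c' : G ⧸ center G)
    refine ⟨z, ?_, ?_, fun g => ?_⟩
    · rw [← QuotientGroup.eq_one_iff, QuotientGroup.mk_pow, hz, ← SubgroupClass.coe_pow, ← hc',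
        pow_orderOf_eq_one]
      rfl
    · intro h
      rw [← QuotientGroup.eq_one_iff, hz, OneMemClass.coe_eq_one] at h
      rw [h, orderOf_one] at hc'
      exact hp.out.ne_one hc'.symm
    · rw [← QuotientGroup.eq_one_iff, QuotientGroup.mk_mul, QuotientGroup.mk_mul, QuotientGroup.mk_mul,
        QuotientGroup.mk_inv, QuotientGroup.mk_inv, hz, (mem_center_iff.1 c'.2 (g : G ⧸ center G))]
      group
  set C := centralizer ({z} : Set G) with hC
  set A : Subgroup G := C ⊓ centralizer (C : Set G) with hA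
  haveI hCn : C.Normal := ⟨fun v hv g => by
    have hd := mem_center_iff.1 (hz2 g⁻¹)
    have hv' := (hcen _ _).1 hv
    refine (hcen _ _).2 ?_
    have e : g⁻¹ * z * g = g⁻¹ * z * g⁻¹⁻¹ * z⁻¹ * z := by group
    have h1 : v * (g⁻¹ * z * g) = (g⁻¹ * z * g) * v := by
      rw [e]
      generalize g⁻¹ * z * g⁻¹⁻¹ * z⁻¹ = d at hd ⊢
      rw [← mul_assoc, hd v, mul_assoc, hv', ← mul_assoc]
    calc g * v * g⁻¹ * z = g * (v * (g⁻¹ * z * g)) * g⁻¹ := by group
      _ = g * ((g⁻¹ * z * g) * v) * g⁻¹ := by rw [h1]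
      _ = z * (g * v * g⁻¹) := by group⟩
  haveI : A.Normal := inferInstance
  haveI : IsMulCommutative A := ⟨⟨fun u v => Subtype.ext ((mem_centralizer_iff.1 u.2.2 v v.2.1).symm)⟩⟩
  have hzA : z ∈ A := ⟨(hcen _ _).2 rfl, mem_centralizer_iff.2 fun v hv => (hcen _ _).1 hv⟩
  -- elements with noncentral p-th power lie in A
  have hin : ∀ u : G, u ^ p ∉ center G → u ∈ A := by
    intro u hu
    have huc : u ∉ center G := fun h => hu (pow_mem h p)
    have hcomm : z * u = u * z := by
      have hd := mem_center_iff.1 (hz2 u)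
      have h1 : u * z * u⁻¹ = (u * z * u⁻¹ * z⁻¹) * z := by group
      generalize u * z * u⁻¹ * z⁻¹ = d at hd h1
      have hcd : Commute d z := (hd z).symm
      have hit : ∀ n : ℕ, u ^ n * z * (u ^ n)⁻¹ = d ^ n * z := by
        intro n
        induction n with
        | zero => simp
        | succ n ih =>
          calc u ^ (n + 1) * z * (u ^ (n + 1))⁻¹ = u * (u ^ n * z * (u ^ n)⁻¹) * u⁻¹ := by
                rw [pow_succ']; group
            _ = (u * d ^ n) * (z * u⁻¹) := by rw [ih]; group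
            _ = d ^ n * (u * z * u⁻¹) := by
                rw [(Commute.pow_right (hd u) n).eq]; group
            _ = d ^ (n + 1) * z := by rw [h1, pow_succ]; group
      have hdp : d ^ p = 1 := by
        have h3 : z ^ p = d ^ p * z ^ p := by
          calc z ^ p = u * z ^ p * u⁻¹ := by rw [mem_center_iff.1 hzc u, mul_inv_cancel_right]
            _ = (u * z * u⁻¹) ^ p := (conj_pow).symm
            _ = d ^ p * z ^ p := by rw [h1, hcd.mul_pow]
        exact right_eq_mul.1 h3
      have hzup : z * u ^ p = u ^ p * z := by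
        have := hit p
        rw [hdp, one_mul] at this
        rw [← mul_inv_eq_iff_eq_mul.1 this]
      have : z ∈ centralizer ({u} : Set G) := by rw [hpw u hu]; exact (hcen _ _).2 hzup
      exact (hcen _ _).1 this
    have huz : (u * z) ^ p ∉ center G := by
      rw [Commute.mul_pow hcomm.symm]
      exact fun h => hu ((mul_mem_cancel_right hzc).1 h)
    have hCe : C = centralizer ({u} : Set G) := by
      refine (hmax u z huc hzn fun v hv => ?_).symm
      have h1 : v ∈ centralizer ({(u * z) ^ p} : Set G) := by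
        have hv' := (hcen _ _).1 hv
        refine (hcen _ _).2 ?_
        rw [Commute.mul_pow hcomm.symm, ← mul_assoc, (Commute.pow_right hv' p).eq, mul_assoc,
          mem_center_iff.1 hzc v, mul_assoc]
      rw [← hpw _ huz, hcen] at h1
      refine (hcen _ _).2 (mul_left_cancel (a := u) ?_)
      rw [← mul_assoc, ← (hcen _ _).1 hv, mul_assoc, h1, mul_assoc]
    refine ⟨(hcen _ _).2 hcomm.symm, mem_centralizer_iff.2 fun v hv => ?_⟩
    rw [hCe] at hv
    exact (hcen _ _).1 hv
  have hxA : x ∈ A := hin x hx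
  have hout : ∀ g : G, g ∉ A → g ^ p ∈ center G := fun g hg => by
    by_contra h; exact hg (hin g h)
  have hCA : ∀ g : G, g * z = z * g → g ∈ A := by
    intro g hg
    by_contra hgA
    have hgC : g ∈ C := (hcen _ _).2 hg
    have h1 := hout (g * x) (fun h => hgA ((mul_mem_cancel_right hxA).1 h))
    rw [Commute.mul_pow (mem_centralizer_iff.1 hxA.2 g hgC)] at h1
    exact hx ((mul_mem_cancel_left (hout g hgA)).1 h1)
  have hnorm : ∀ (u : A) (g : G), g ∉ A →
      ((∏ i ∈ Finset.range p, (MulAut.conjNormal g ^ i) u : A) : G) ∈ center G := by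
    intro u g hg
    have h1 := hout ((u : G) * g) (fun h => hg ((mul_mem_cancel_left u.2).1 h))
    rw [mul_pow_eq] at h1
    exact (mul_mem_cancel_right (hout g hg)).1 h1
  obtain ⟨g, hg⟩ : ∃ g : G, g ∉ A := by
    by_contra h
    push Not at h
    exact hzn (mem_center_iff.2 fun v => (hcen _ _).1 (h v).1)
  have hgp : g ^ p ∈ A := ⟨(hcen _ _).2 (mem_center_iff.1 (hout g hg) z).symm,
    mem_centralizer_iff.2 fun v _ => mem_center_iff.1 (hout g hg) v⟩
  set K := zpowers g ⊔ A with hK
  have hcomm : ∀ u v : G, u * v * u⁻¹ * v⁻¹ ∈ A := by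
    intro u v
    have hd1 : ∀ w : G, ∃ d ∈ center G, w * z = d * z * w := fun w =>
      ⟨w * z * w⁻¹ * z⁻¹, hz2 w, by group⟩
    have hcc : ∀ w : G, ∀ d ∈ center G, ∀ k : G, k * z = d * z * k → w * k * w⁻¹ * z = d * z * (w * k * w⁻¹) := by
      intro w d hd k hk
      obtain ⟨e, he, hwe⟩ := hd1 w
      have hwi : w⁻¹ * z = e⁻¹ * z * w⁻¹ := by
        have h : z * w⁻¹ = e * (w⁻¹ * z) := by
          calc z * w⁻¹ = w⁻¹ * (w * z) * w⁻¹ := by group
            _ = w⁻¹ * e * z := by rw [hwe]; group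
            _ = e * (w⁻¹ * z) := by rw [mem_center_iff.1 he w⁻¹, mul_assoc]
        rw [mul_assoc, h]; group
      calc w * k * w⁻¹ * z = w * k * (e⁻¹ * z * w⁻¹) := by rw [mul_assoc, hwi]
        _ = (w * (k * e⁻¹)) * (z * w⁻¹) := by group
        _ = (w * (e⁻¹ * k)) * (z * w⁻¹) := by rw [mem_center_iff.1 (inv_mem he) k]
        _ = (w * e⁻¹) * (k * z) * w⁻¹ := by group
        _ = (e⁻¹ * w) * (d * z * k) * w⁻¹ := by rw [mem_center_iff.1 (inv_mem he) w, hk]
        _ = e⁻¹ * (w * d) * (z * k) * w⁻¹ := by group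
        _ = e⁻¹ * (d * w) * (z * k) * w⁻¹ := by rw [mem_center_iff.1 hd w]
        _ = (e⁻¹ * d) * (w * z) * (k * w⁻¹) := by group
        _ = (d * e⁻¹) * (e * z * w) * (k * w⁻¹) := by rw [← mem_center_iff.1 hd e⁻¹, hwe]
        _ = d * z * (w * k * w⁻¹) := by group
    refine hCA _ ?_
    obtain ⟨d, hd, hvd⟩ := hd1 v
    have hvi : v⁻¹ * z = d⁻¹ * z * v⁻¹ := by
      have h : z * v⁻¹ = d * (v⁻¹ * z) := by
        calc z * v⁻¹ = v⁻¹ * (v * z) * v⁻¹ := by group
          _ = v⁻¹ * d * z := by rw [hvd]; group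
          _ = d * (v⁻¹ * z) := by rw [mem_center_iff.1 hd v⁻¹, mul_assoc]
      rw [mul_assoc, h]; group
    have h2 := hcc u d hd v hvd
    generalize u * v * u⁻¹ = k at h2 ⊢
    calc k * v⁻¹ * z = k * (d⁻¹ * z * v⁻¹) := by rw [mul_assoc, hvi]
      _ = (k * d⁻¹) * (z * v⁻¹) := by group
      _ = (d⁻¹ * k) * (z * v⁻¹) := by rw [mem_center_iff.1 (inv_mem hd) k]
      _ = d⁻¹ * (k * z) * v⁻¹ := by group
      _ = z * (k * v⁻¹) := by rw [h2]; group
  by_cases hKt : K = ⊤
  · -- index p
    have hidx : A.index ≤ p := by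
      rw [index_eq_card]
      have : Function.Surjective (fun i : Fin p => ((g ^ (i : ℕ) : G) : G ⧸ A)) := by
        intro q
        obtain ⟨w, rfl⟩ := QuotientGroup.mk_surjective q
        have hw : w ∈ K := hKt ▸ mem_top w
        rw [hK, ← SetLike.mem_coe, Subgroup.mul_normal] at hw
        obtain ⟨_, ⟨n, rfl⟩, b, hb, rfl⟩ := hw
        have hg1 : ((g : G ⧸ A)) ^ (p : ℤ) = 1 := by
          rw [zpow_natCast, ← QuotientGroup.mk_pow]; exact (QuotientGroup.eq_one_iff _).2 hgp
        have hn0 : 0 ≤ n % (p : ℤ) := Int.emod_nonneg _ (by exact_mod_cast hp.out.ne_zero)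
        refine ⟨⟨(n % (p : ℤ)).toNat, ?_⟩, ?_⟩
        · have := Int.emod_lt_of_pos n (by exact_mod_cast hp.out.pos : (0 : ℤ) < p)
          omega
        · simp only
          rw [QuotientGroup.mk_mul_of_mem _ hb, QuotientGroup.mk_pow, QuotientGroup.mk_zpow,
            ← zpow_natCast, Int.toNat_of_nonneg hn0, Int.emod_def, zpow_sub, zpow_mul, hg1, one_zpow,
            inv_one, mul_one]
      simpa using Nat.card_le_card_of_surjective _ this
    set Z₀ := A ⊓ centralizer ({g} : Set G) with hZ₀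
    have hgc : g ∉ center G := fun h => hg (hCA g (mem_center_iff.1 h z).symm)
    have hCe : C = A := le_antisymm (fun v hv => hCA v ((hcen _ _).1 hv)) inf_le_left
    have hd1 : Z₀.relIndex A ≤ p := by
      rw [hZ₀, inf_relIndex_left]
      refine le_trans (relIndex_le_of_le_right le_top (by
        rw [relIndex_top_right]; exact index_ne_zero_of_finite)) ?_
      rw [relIndex_top_right, hcs g hgc, ← hcs z hzn, ← hC, hCe]
      exact hidx
    have hZle : Z₀ ≤ center G := by
      intro u hu
      by_contra huc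
      have h1 : C = centralizer ({u} : Set G) := hmax z u hzn huc fun v hv => (hcen _ _).2
        (mem_centralizer_iff.1 hu.1.2 v hv)
      apply hg
      refine hCA g ((hcen _ _).1 ?_)
      rw [← hC, h1, hcen]
      exact ((hcen _ _).1 hu.2).symm
    have hZ0 : Z₀.relIndex A ≠ 0 := by
      rw [relIndex]; exact index_ne_zero_of_finite
    obtain ⟨b, hb⟩ := (hP.to_subgroup A).index (Z₀.subgroupOf A)
    change Z₀.relIndex A = p ^ b at hb
    haveI : IsMulCommutative A := inferInstance
    haveI : (Z₀.subgroupOf A).Normal := Subgroup.normal_of_isMulCommutative _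
    have h1 := Subgroup.pow_index_mem (Z₀.subgroupOf A) ⟨x, hxA⟩
    change x ^ (Z₀.relIndex A) ∈ Z₀ at h1
    rw [hb] at h1 hd1
    have hb1 : b ≤ 1 := (Nat.pow_le_pow_iff_right hp.out.one_lt).1 (by simpa using hd1)
    rcases Nat.le_one_iff_eq_zero_or_eq_one.1 hb1 with rfl | rfl
    · exact hx (pow_mem (hZle (by simpa using h1)) p)
    · exact hx (hZle (by simpa using h1))
  · obtain ⟨h, hh⟩ : ∃ h, h ∉ K := by
      by_contra hc; push Not at hc; exact hKt (eq_top_iff.2 fun v _ => hc v)
    have hgih : ∀ i : ℕ, g ^ i * h ∉ A := fun i hi => hh ((mul_mem_cancel_left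
      (mem_sup_left (pow_mem (mem_zpowers g) i))).1 (mem_sup_right hi : g ^ i * h ∈ K))
    have hgj : ∀ j : ℕ, ¬ p ∣ j → g ^ j ∉ A := by
      intro j hj hmem
      apply hg
      have hcop : Nat.Coprime p j := hp.out.coprime_iff_not_dvd.2 hj
      have h1 := Nat.gcd_eq_gcd_ab p j
      rw [hcop] at h1
      have : g = (g ^ p) ^ (Nat.gcdA p j) * (g ^ j) ^ (Nat.gcdB p j) := by
        rw [← zpow_natCast, ← zpow_natCast g j, ← zpow_mul, ← zpow_mul, ← zpow_add, ← h1]
        simp
      rw [this]
      exact A.mul_mem (A.zpow_mem hgp _) (A.zpow_mem hmem _)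
    have hαβ : Commute (MulAut.conjNormal g : MulAut A) (MulAut.conjNormal h) := by
      change MulAut.conjNormal g * MulAut.conjNormal h = MulAut.conjNormal h * MulAut.conjNormal g
      rw [← map_mul, ← map_mul]
      refine MulEquiv.ext fun u => Subtype.ext ?_
      rw [MulAut.conjNormal_apply, MulAut.conjNormal_apply]
      have h0 := hcomm g h
      have hu : (h * g * (u : G) * (h * g)⁻¹) ∈ A := (inferInstance : A.Normal).conj_mem _ u.2 _
      have h1 := mem_centralizer_iff.1 h0.2 _ hu.1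
      calc g * h * (u : G) * (g * h)⁻¹
          = (g * h * g⁻¹ * h⁻¹) * (h * g * (u : G) * (h * g)⁻¹) * (g * h * g⁻¹ * h⁻¹)⁻¹ := by group
        _ = h * g * (u : G) * (h * g)⁻¹ := by rw [← h1, mul_inv_cancel_right]
    have key := pow_mem_of_norms ((center G).subgroupOf A) hp.out (MulAut.conjNormal g : MulAut A)
      (MulAut.conjNormal h : MulAut A) hαβ
      (fun i u => by
        rw [mem_subgroupOf, ← map_pow, ← map_mul]
        exact hnorm u _ (hgih i))
      (fun j hj u => by
        rw [mem_subgroupOf, ← map_pow]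
        exact hnorm u _ (hgj j hj)) (⟨x, hxA⟩ : A)
    exact hx (by simpa [mem_subgroupOf] using key)

end CfsgLib.TwoClassSizes
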